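import Groth.Prelude.Def_SGA1t
import Groth.Agent.Lib.FEt21.Galois
import Groth.Agent.Lib.FEt21.NormalizationIn
import Groth.Agent.Lib.IntExt.Basic
import Groth.Agent.Lib.BCQVcomp.EtaleKey
import Groth.Agent.Lib.EtDer.NormalConst
import Groth.Agent.Lib.EtSite.Immersion
import Groth.Agent.Lib.EtSite.PushUI
import Groth.Agent.Lib.Constructible.Strata
import Groth.Agent.Lib.Constructible.ExtZeroConst
import Groth.Agent.Lib.LocConst.Connected
import Groth.Agent.Lib.FLCTriv18.Basic
import Mathlib.CategoryTheory.Galois.Decomposition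
import Mathlib.CategoryTheory.Galois.GaloisObjects
import Mathlib.AlgebraicGeometry.Normalization

/-!
# Extension of finite locally constant sheaves and normalization of principal covers
-/

set_option autoImplicit false
set_option backward.isDefEq.respectTransparency false
set_option linter.style.haveILetI false
set_option linter.all false

universe u

open CategoryTheory CategoryTheory.Limits AlgebraicGeometry Opposite

noncomputable section

namespace GrothLib.LccExt18

variable {X : Scheme.{u}}

theorem isIso_fromNormalization_open [IsIntegral X] (hX : Pi1.IsNormalScheme X) (U : X.Opens)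
    [QuasiCompact U.ι] [Nonempty U] : IsIso U.ι.fromNormalization := by
  have hU : genericPoint X ∈ U := by
    obtain ⟨⟨x, hx⟩⟩ := ‹Nonempty U›
    exact (genericPoint_specializes x).mem_open U.2 hx
  haveI : Subsingleton (Spec X.functionField) := inferInstanceAs (Subsingleton (PrimeSpectrum X.functionField))
  let s := X.fromSpecStalk (genericPoint X)
  haveI : Finite (Spec X.functionField) := inferInstance
  haveI : QuasiCompact s := GrothLib.EtDer.quasiCompact_of_finite s
  haveI : QuasiSeparated s := inferInstance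
  haveI := GrothLib.FEt21.isIso_fromNormalization_self hX
  have hr : Set.range s ⊆ Set.range U.ι := by
    rintro _ ⟨w, rfl⟩
    rw [Scheme.Opens.range_ι, Subsingleton.elim w (IsLocalRing.closedPoint _)]
    show X.fromSpecStalk (genericPoint X) (IsLocalRing.closedPoint _) ∈ U
    rw [Scheme.fromSpecStalk_closedPoint]
    exact hU
  let g := IsOpenImmersion.lift U.ι s hr
  have hg : g ≫ U.ι = s := IsOpenImmersion.lift_fac _ _ _
  let d : s.normalization ⟶ U.ι.normalization := s.normalizationDesc (g ≫ U.ι.toNormalization)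
    U.ι.fromNormalization (by rw [Category.assoc, Scheme.Hom.toNormalization_fromNormalization, hg])
  have hd : d ≫ U.ι.fromNormalization = s.fromNormalization := Scheme.Hom.normalizationDesc_comp ..
  have hd' : s.toNormalization ≫ d = g ≫ U.ι.toNormalization :=
    Scheme.Hom.toNormalization_normalizationDesc ..
  let c : X ⟶ U.ι.normalization := inv s.fromNormalization ≫ d
  have hc : c ≫ U.ι.fromNormalization = 𝟙 X := by rw [Category.assoc, hd, IsIso.inv_hom_id]
  haveI : IsReduced (U : Scheme.{u}) := isReduced_of_isOpenImmersion U.ι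
  haveI : IsDominant g := ⟨fun u => by
    let w : Spec (X.presheaf.stalk (genericPoint X)) := IsLocalRing.closedPoint _
    have hw : U.ι (g w) = genericPoint X :=
      (congrArg (fun m : _ ⟶ X => m.base w) hg).trans Scheme.fromSpecStalk_closedPoint
    exact (U.ι.isEmbedding.isInducing.specializes_iff.1
      (show U.ι (g w) ⤳ U.ι u by rw [hw]; exact genericPoint_specializes _)).mem_closed
      isClosed_closure (subset_closure ⟨w, rfl⟩)⟩
  have h1 : U.ι ≫ c = U.ι.toNormalization := by
    refine ext_of_isDominant_of_isSeparated U.ι.fromNormalization ?_ g ?_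
    · rw [Category.assoc, hc, Category.comp_id, Scheme.Hom.toNormalization_fromNormalization]
    · rw [reassoc_of% hg, ← hd']
      show s ≫ inv s.fromNormalization ≫ d = _
      rw [← Category.assoc, show s ≫ inv s.fromNormalization = s.toNormalization by
        rw [IsIso.comp_inv_eq, Scheme.Hom.toNormalization_fromNormalization]]
  refine ⟨c, ?_, hc⟩
  refine Scheme.Hom.normalization.hom_ext U.ι _ _ U.ι.fromNormalization ?_ ?_ (Category.id_comp _)
  · rw [Scheme.Hom.toNormalization_fromNormalization_assoc, h1, Category.comp_id]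
  · rw [Category.assoc, hc, Category.comp_id]

/-- If `g` is its own normalization and `a` is integral, the normalization of `g ≫ a` is the middle scheme. -/
theorem etale_fromNormalization_comp {W A : Scheme.{u}} (g : W ⟶ A) (a : A ⟶ X)
    [QuasiCompact g] [QuasiSeparated g] [IsIso g.fromNormalization] [IsIntegralHom a] [Etale a]
    (h : W ⟶ X) [QuasiCompact h] [QuasiSeparated h] (hh : g ≫ a = h) : Etale h.fromNormalization := by
  let l : h.normalization ⟶ A := h.normalizationDesc g a hh.symm
  have hl : l ≫ a = h.fromNormalization := Scheme.Hom.normalizationDesc_comp ..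
  have hl' : h.toNormalization ≫ l = g := Scheme.Hom.toNormalization_normalizationDesc ..
  haveI : IsIntegralHom (l ≫ a) := by rw [hl]; infer_instance
  haveI : IsIntegralHom l := IsIntegralHom.of_comp l a
  let d : g.normalization ⟶ h.normalization := g.normalizationDesc h.toNormalization l hl'.symm
  have hd : d ≫ l = g.fromNormalization := Scheme.Hom.normalizationDesc_comp ..
  have hd' : g.toNormalization ≫ d = h.toNormalization := Scheme.Hom.toNormalization_normalizationDesc ..
  have hg : g ≫ inv g.fromNormalization = g.toNormalization := by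
    rw [IsIso.comp_inv_eq, Scheme.Hom.toNormalization_fromNormalization]
  haveI : IsIso l := by
    refine ⟨inv g.fromNormalization ≫ d, ?_, by rw [Category.assoc, hd, IsIso.inv_hom_id]⟩
    refine Scheme.Hom.normalization.hom_ext h _ _ h.fromNormalization ?_ ?_ (Category.id_comp _)
    · rw [reassoc_of% hl', reassoc_of% hg, hd', Category.comp_id]
    · simp only [Category.assoc]
      rw [← hl, reassoc_of% hd, IsIso.inv_hom_id_assoc]
  rw [← hl]
  infer_instance

theorem etale_normalization_restrict [IsIntegral X] (hX : Pi1.IsNormalScheme X) (U : X.Opens)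
    [QuasiCompact U.ι] (A : FEt.Cat X) (f : ((FEt.restrict U.ι).obj A).left ⟶ X)
    (hf : ((FEt.restrict U.ι).obj A).hom ≫ U.ι = f)
    [QuasiCompact f] [QuasiSeparated f] : Etale f.fromNormalization := by
  let P : Scheme.{u} := ((FEt.restrict U.ι).obj A).left
  haveI : IsFinite A.hom := A.prop.1
  haveI : Etale A.hom := A.prop.2
  rcases isEmpty_or_nonempty U with hU | hU
  · haveI : IsEmpty P := ⟨fun z => hU.false (((FEt.restrict U.ι).obj A).hom.base z)⟩
    haveI : IsEmpty f.normalization := by
      refine ⟨fun z => ?_⟩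
      have := f.toNormalization.denseRange.nonempty_iff.2 ⟨z⟩
      exact IsEmpty.false this.some
    infer_instance
  haveI := isIso_fromNormalization_open hX U
  let g : pullback A.hom U.ι ⟶ A.left := pullback.fst _ _
  haveI : IsIso (pullback.snd U.ι A.hom).fromNormalization := by
    rw [← U.ι.normalizationPullback_snd A.hom]
    infer_instance
  haveI : IsIso g.fromNormalization :=
    GrothLib.FEt21.isIso_fromNormalization_comp (pullbackSymmetry A.hom U.ι).hom (pullback.snd U.ι A.hom) g
      (pullbackSymmetry_hom_comp_snd A.hom U.ι)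
  exact etale_fromNormalization_comp g A.hom f (pullback.condition.trans hf)

theorem isIso_of_isEmpty [IsEmpty X] {F G : EtCoh.Ab X} (a : F ⟶ G) : IsIso a :=
  GrothLib.EtSite.isIso_of_stalksAC a fun Ω _ _ ξ =>
    (IsEmpty.false (ξ.base (default : Spec (CommRingCat.of Ω)))).elim

theorem exists_extension_of_normalization [IsIntegral X] (hX : Pi1.IsNormalScheme X) (U : X.Opens)
    [QuasiCompact U.ι] (F : EtCoh.Ab ↑U) {V : Scheme.{u}} (v : V ⟶ ↑U) [IsFinite v] [Surjective v]
    (M : Type) [AddCommGroup M] [Finite M] (e : (EtCoh.pull v).obj F ≅ EtCoh.const V M)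
    [Etale (v ≫ U.ι).fromNormalization] :
    ∃ F' : EtCoh.Ab X, EtCoh.IsFiniteLocallyConstant F' ∧ Nonempty ((EtCoh.pull U.ι).obj F' ≅ F) := by
  rcases isEmpty_or_nonempty U with hU | hU
  · haveI : IsEmpty (U : Scheme.{u}) := hU
    refine ⟨EtCoh.const X PUnit, GrothLib.Constructible.isFiniteLocallyConstant_const X PUnit, ⟨?_⟩⟩
    haveI := isIso_of_isEmpty (0 : (EtCoh.pull U.ι).obj (EtCoh.const X PUnit) ⟶ F)
    exact asIso (0 : (EtCoh.pull U.ι).obj (EtCoh.const X PUnit) ⟶ F)
  let f := v ≫ U.ι
  let n := f.fromNormalization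
  let t := f.toNormalization
  have hsq : IsPullback t v n U.ι := GrothLib.IntExt.isPullback_toNormalization U v
  haveI : IsOpenImmersion t := MorphismProperty.of_isPullback hsq.flip (inferInstance : IsOpenImmersion U.ι)
  haveI : QuasiCompact t := MorphismProperty.of_isPullback hsq.flip (inferInstance : QuasiCompact U.ι)
  have hsurj : Function.Surjective n.base := by
    have hU' : genericPoint X ∈ U := by
      obtain ⟨⟨x, hx⟩⟩ := ‹Nonempty U›
      exact (genericPoint_specializes x).mem_open U.2 hx
    obtain ⟨z, hz⟩ := v.surjective ⟨_, hU'⟩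
    intro x
    refine (genericPoint_specializes x).mem_closed n.isClosedMap.isClosed_range ⟨t z, ?_⟩
    refine (congrArg (fun m : V ⟶ X => m.base z) hsq.w).trans ?_
    exact congrArg U.ι.base hz
  let W : X.Etale := Scheme.Etale.mk n
  refine ⟨(EtCoh.push U.ι).obj F, ⟨PUnit.{u + 1}, fun _ => W, fun x => ⟨PUnit.unit, hsurj x⟩, fun _ =>
    ⟨M, inferInstance, inferInstance, ?_⟩⟩, ?_⟩
  · rw [GrothLib.LocConst.restr_iso_const_iff]
    haveI := GrothLib.BCQVcomp.isIso_baseChange0_of_etale U.ι n t v hsq.flip F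
    haveI : QuasiCompact (𝟙 V ≫ t) := by rw [Category.id_comp]; infer_instance
    haveI := GrothLib.EtDer.isIso_unit_const (AddCommGrpCat.of (ULift.{u + 1} M)) t (𝟙 V)
      (GrothLib.EtDer.isNormalScheme_etale hX n) fun p hp => by
        rw [Category.id_comp]
        have hnp : n.base p = genericPoint X := by
          obtain ⟨y, hy, hy'⟩ := Flat.generalizingMap n (genericPoint_specializes (n.base p))
          rw [← hy', hp y hy]
        have hmem : n.base p ∈ U := by
          obtain ⟨⟨x, hx⟩⟩ := ‹Nonempty U›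
          rw [hnp]
          exact (genericPoint_specializes x).mem_open U.2 hx
        obtain ⟨z, hz, -⟩ := Scheme.exists_preimage_of_isPullback hsq p ⟨_, hmem⟩ rfl
        exact ⟨z, hz⟩
    exact ⟨asIso (EtCoh.baseChange0 U.ι n t v hsq.flip.w F) ≪≫ (EtCoh.push t).mapIso e ≪≫
      (EtCoh.push t).mapIso ((EtCore.pullConst t M).symm) ≪≫
      (asIso ((EtCoh.pullPushAdj t).unit.app (EtCoh.const f.normalization M))).symm⟩
  · haveI := GrothLib.EtSite.isIso_counit U.ι F
    exact ⟨asIso ((EtCoh.pullPushAdj U.ι).counit.app F)⟩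

open PreGaloisCategory in
theorem exists_principal [IsIntegral X] (U : X.Opens) (F' : EtCoh.Ab X)
    (hF' : EtCoh.IsFiniteLocallyConstant F') (F : EtCoh.Ab ↑U) (eF : (EtCoh.pull U.ι).obj F' ≅ F) :
    ∃ (A : FEt.Cat X) (G : Type) (_ : Group G) (_ : Finite G)
      (ρ : G →* Aut ((FEt.restrict U.ι).obj A)),
      SGA1t.IsPrincipal G ((FEt.restrict U.ι).obj A) ρ ∧
      ∃ (M : Type) (_ : AddCommGroup M) (_ : Finite M),
        Nonempty ((EtCoh.pull ((FEt.restrict U.ι).obj A).hom).obj F ≅
          EtCoh.const ((FEt.restrict U.ι).obj A).left M) := by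
  classical
  obtain ⟨M, _, _, hM⟩ := GrothLib.LocConst.exists_chart_single F' hF'
  obtain ⟨W₀, hW₀, hW₀s, hconst⟩ := GrothLib.FLCTriv18.exists_finite_cover_const hF' hM
  let W : FEt.Cat X := MorphismProperty.Over.mk ⊤ W₀.hom ⟨hW₀, W₀.prop⟩
  obtain ⟨w₀, -⟩ := W₀.hom.surjective (genericPoint X)
  let ξ₀ := GrothLib.FEt21.geomPt X (genericPoint X)
  haveI := GrothLib.FEt21.preGalois (X := X)
  haveI hF₀ := GrothLib.FEt21.fiberFunctor ξ₀
  haveI : GaloisCategory (FEt.Cat X) := { hasFiberFunctor := ⟨GrothLib.FEt21.fibFin ξ₀, ⟨hF₀⟩⟩ }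
  obtain ⟨A, g, hA⟩ := exists_hom_from_galois_of_fiber_nonempty (GrothLib.FEt21.fibFin ξ₀) W
    (GrothLib.FEt21.nonempty_fiber ξ₀ W w₀)
  haveI := hA
  haveI : Finite (Aut A) := inferInstance
  obtain ⟨G, _, _, ⟨eG⟩⟩ := Finite.exists_type_univ_nonempty_mulEquiv.{_, 0} (Aut A)
  let R := FEt.restrict U.ι
  let P := R.obj A
  let ρ : G →* Aut P := (R.mapAut A).comp eG.symm.toMonoidHom
  refine ⟨A, G, inferInstance, inferInstance, ρ, ⟨?_, ?_⟩, M, inferInstance, inferInstance, ?_⟩
  · intro x
    haveI := GrothLib.FEt21.fiberFunctor (GrothLib.FEt21.geomPt X (U.ι x))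
    obtain ⟨a⟩ : Nonempty ((GrothLib.FEt21.fibFin (GrothLib.FEt21.geomPt X (U.ι x))).obj A) :=
      nonempty_fiber_of_isConnected _ A
    let a' : FEt.fiberObj (GrothLib.FEt21.geomPt X (U.ι x)) A := a
    have ha : A.hom.base (a'.1 default) = U.ι x :=
      (congrArg (fun m => m.base default) a'.2).trans (GrothLib.FEt21.geomPt_default X _)
    obtain ⟨z, -, hz⟩ := Scheme.Pullback.exists_preimage_pullback (f := A.hom) (g := U.ι) _ x ha
    exact ⟨z, hz⟩
  · intro Ω _ _ ξ s t
    haveI := GrothLib.FEt21.fiberFunctor (ξ ≫ U.ι)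
    let q : FEt.fiberObj ξ P → FEt.fiberObj (ξ ≫ U.ι) A := fun r =>
      ⟨r.1 ≫ pullback.fst A.hom U.ι, (Category.assoc _ _ _).trans ((congrArg (r.1 ≫ ·) pullback.condition).trans
        ((Category.assoc _ _ _).symm.trans (congrArg (· ≫ U.ι) r.2)))⟩
    have hq : Function.Injective q := fun r r' h => Subtype.ext (pullback.hom_ext
      (congrArg Subtype.val h) (r.2.trans r'.2.symm))
    have hnat : ∀ (φ : A ⟶ A) r, q ((FEt.fiber ξ).map (R.map φ) r) = (FEt.fiber (ξ ≫ U.ι)).map φ (q r) :=
      fun φ r => Subtype.ext ((Category.assoc _ _ _).trans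
        ((congrArg (r.1 ≫ ·) (pullback.lift_fst _ _ _)).trans (Category.assoc _ _ _).symm))
    obtain ⟨hinj, hsurj⟩ := evaluation_aut_bijective_of_isGalois (GrothLib.FEt21.fibFin (ξ ≫ U.ι)) A (q s)
    obtain ⟨α, hα⟩ := hsurj (q t)
    refine ⟨eG α, hq ?_, fun g' hg' => ?_⟩
    · refine (hnat (eG.symm (eG α)).hom s).trans ?_
      rw [eG.symm_apply_apply]
      exact hα
    · refine eG.symm_apply_eq.1 (hinj ?_)
      exact ((hnat (eG.symm g').hom s).symm.trans (congrArg q hg')).trans hα.symm
  · obtain ⟨e⟩ := GrothLib.LocConst.pull_iso_const_of_fac g.left W₀.hom A.hom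
      (MorphismProperty.Over.w g) F' _ hconst
    obtain ⟨e'⟩ := GrothLib.LocConst.pull_iso_const_of_fac (pullback.fst A.hom U.ι) A.hom
      (P.hom ≫ U.ι) pullback.condition F' _ ⟨e⟩
    exact ⟨(EtCoh.pull P.hom).mapIso eF.symm ≪≫ ((EtCore.pullComp P.hom U.ι).app F').symm ≪≫ e'⟩

end GrothLib.LccExt18
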